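import Cfsg.Agent.H482.LF.StDef
import Cfsg.Agent.H118.L34.St

/-!
# S5917, Steinberg branch: the numbers of flags, points and lines; `PP` and `LL` generate (helper353)
-/

set_option autoImplicit false
set_option linter.unusedSectionVars false

namespace Cfsg.Agent.H353.L34

open Matrix Cfsg.Agent.H691.L34 Cfsg.Agent.H482.LF

variable {F : Type} [Field F]

/-- elements of `LL` -/
def k2 (t : F) : G3 F := ⟨!![0, 1, 0; -1, t, 0; 0, 0, 1], by simp [Matrix.det_fin_three]⟩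

/-- elements of `PP` -/
def k1 (t : F) : G3 F := ⟨!![1, 0, 0; 0, 0, 1; 0, -1, t], by simp [Matrix.det_fin_three]⟩

theorem k2_mem (t : F) : k2 t ∈ LL F := ⟨rfl, rfl⟩

theorem k1_mem (t : F) : k1 t ∈ PP F := ⟨rfl, rfl⟩

theorem mul_k2 (t : F) (g : G3 F) : (k2 t * g).1 0 0 = g.1 1 0 ∧ (k2 t * g).1 1 0 = - g.1 0 0 + t * g.1 1 0 ∧
    (k2 t * g).1 2 0 = g.1 2 0 := by
  refine ⟨?_, ?_, ?_⟩ <;> rw [mul3] <;> simp [k2]

theorem mul_k1 (t : F) (g : G3 F) : (k1 t * g).1 0 0 = g.1 0 0 ∧ (k1 t * g).1 1 0 = g.1 2 0 ∧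
    (k1 t * g).1 2 0 = - g.1 1 0 + t * g.1 2 0 := by
  refine ⟨?_, ?_, ?_⟩ <;> rw [mul3] <;> simp [k1]

/-- a subgroup containing `PP` and `LL` is everything -/
theorem mem_of_le {K : Subgroup (G3 F)} (hP : PP F ≤ K) (hL : LL F ≤ K) (g : G3 F) : g ∈ K := by
  -- first column `(a, b, 0)`
  have h1 : ∀ g : G3 F, g.1 2 0 = 0 → g ∈ K := by
    intro g hg
    by_cases hb : g.1 1 0 = 0
    · exact hP ⟨hb, hg⟩
    · obtain ⟨e0, e1, e2⟩ := mul_k2 (g.1 0 0 / g.1 1 0) g
      have h : k2 (g.1 0 0 / g.1 1 0) * g ∈ PP F := by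
        refine ⟨?_, ?_⟩
        · rw [e1, div_mul_cancel₀ _ hb, neg_add_cancel]
        · rw [e2, hg]
      have h2 := K.mul_mem (K.inv_mem (hL (k2_mem (g.1 0 0 / g.1 1 0)))) (hP h)
      rwa [inv_mul_cancel_left] at h2
  by_cases hc : g.1 2 0 = 0
  · exact h1 g hc
  · obtain ⟨e0, e1, e2⟩ := mul_k1 (g.1 1 0 / g.1 2 0) g
    have h : k1 (g.1 1 0 / g.1 2 0) * g ∈ K := by
      apply h1
      rw [e2, div_mul_cancel₀ _ hc, neg_add_cancel]
    have h2 := K.mul_mem (K.inv_mem (hP (k1_mem (g.1 1 0 / g.1 2 0)))) h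
    rwa [inv_mul_cancel_left] at h2

/-- **`PP` and `LL` generate** -/
theorem gen_PL : PP F ⊔ LL F = ⊤ :=
  eq_top_iff.2 fun g _ => mem_of_le le_sup_left le_sup_right g

section Card

/-- the elements of `BB` -/
def bel (p : Fˣ × Fˣ × F × F × F) : G3 F :=
  ⟨!![(p.1 : F), p.2.2.1, p.2.2.2.1; 0, (p.2.1 : F), p.2.2.2.2; 0, 0, ((p.1 * p.2.1)⁻¹ : Fˣ)], by
    simp only [Matrix.det_fin_three, Matrix.of_apply, Matrix.cons_val', Matrix.cons_val_zero, Matrix.cons_val_one,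
      Matrix.cons_val, Matrix.cons_val_fin_one, mul_zero, zero_mul, sub_zero, add_zero]
    rw [← Units.val_mul, ← Units.val_mul, mul_inv_cancel, Units.val_one]⟩

theorem bel_mem (p : Fˣ × Fˣ × F × F × F) : bel p ∈ BB F := ⟨rfl, rfl, rfl⟩

/-- the elements of `PP` -/
def pel (p : GL (Fin 2) F × F × F) : G3 F :=
  ⟨!![((det (p.1 : Matrix (Fin 2) (Fin 2) F))⁻¹ : F), p.2.1, p.2.2; 0, (p.1 : Matrix (Fin 2) (Fin 2) F) 0 0,
    (p.1 : Matrix (Fin 2) (Fin 2) F) 0 1; 0, (p.1 : Matrix (Fin 2) (Fin 2) F) 1 0,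
    (p.1 : Matrix (Fin 2) (Fin 2) F) 1 1], by
    have hd : det (p.1 : Matrix (Fin 2) (Fin 2) F) ≠ 0 := (Matrix.isUnits_det_units p.1).ne_zero
    have h2 := Matrix.det_fin_two (p.1 : Matrix (Fin 2) (Fin 2) F)
    simp only [Matrix.det_fin_three, Matrix.of_apply, Matrix.cons_val', Matrix.cons_val_zero, Matrix.cons_val_one,
      Matrix.cons_val, Matrix.cons_val_fin_one, mul_zero, zero_mul, sub_zero, add_zero]
    rw [mul_assoc, mul_assoc, ← mul_sub, ← h2, inv_mul_cancel₀ hd]⟩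

theorem pel_mem (p : GL (Fin 2) F × F × F) : pel p ∈ PP F := ⟨rfl, rfl⟩

/-- the elements of `LL` -/
def lel (p : GL (Fin 2) F × F × F) : G3 F :=
  ⟨!![(p.1 : Matrix (Fin 2) (Fin 2) F) 0 0, (p.1 : Matrix (Fin 2) (Fin 2) F) 0 1, p.2.1;
    (p.1 : Matrix (Fin 2) (Fin 2) F) 1 0, (p.1 : Matrix (Fin 2) (Fin 2) F) 1 1, p.2.2; 0, 0,
    ((det (p.1 : Matrix (Fin 2) (Fin 2) F))⁻¹ : F)], by
    have hd : det (p.1 : Matrix (Fin 2) (Fin 2) F) ≠ 0 := (Matrix.isUnits_det_units p.1).ne_zero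
    have h2 := Matrix.det_fin_two (p.1 : Matrix (Fin 2) (Fin 2) F)
    simp only [Matrix.det_fin_three, Matrix.of_apply, Matrix.cons_val', Matrix.cons_val_zero, Matrix.cons_val_one,
      Matrix.cons_val, Matrix.cons_val_fin_one, mul_zero, zero_mul, sub_zero, add_zero]
    rw [← sub_mul, ← h2, mul_inv_cancel₀ hd]⟩

theorem lel_mem (p : GL (Fin 2) F × F × F) : lel p ∈ LL F := ⟨rfl, rfl⟩

theorem bel_bij : Function.Bijective (fun p : Fˣ × Fˣ × F × F × F => (⟨bel p, bel_mem p⟩ : BB F)) := by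
  constructor
  · intro p q h
    have h1 : (bel p).1 = (bel q).1 := congrArg Subtype.val (congrArg Subtype.val h)
    have h00 : (p.1 : F) = q.1 := congrFun (congrFun h1 0) 0
    have h11 : (p.2.1 : F) = q.2.1 := congrFun (congrFun h1 1) 1
    have h01 : p.2.2.1 = q.2.2.1 := congrFun (congrFun h1 0) 1
    have h02 : p.2.2.2.1 = q.2.2.2.1 := congrFun (congrFun h1 0) 2
    have h12 : p.2.2.2.2 = q.2.2.2.2 := congrFun (congrFun h1 1) 2
    exact Prod.ext (Units.ext h00) (Prod.ext (Units.ext h11) (Prod.ext h01 (Prod.ext h02 h12)))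
  · rintro ⟨g, h10, h20, h21⟩
    have hd : g.1 0 0 * g.1 1 1 * g.1 2 2 = 1 := by
      have h := g.2
      rw [Matrix.det_fin_three] at h
      simp only [h10, h20, h21, mul_zero, zero_mul, sub_zero, add_zero] at h
      exact h
    have h0 : g.1 0 0 ≠ 0 := by
      intro h
      rw [h] at hd
      simp at hd
    have h1 : g.1 1 1 ≠ 0 := by
      intro h
      rw [h] at hd
      simp at hd
    refine ⟨(Units.mk0 _ h0, Units.mk0 _ h1, g.1 0 1, g.1 0 2, g.1 1 2), Subtype.ext (Subtype.ext ?_)⟩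
    have h22 : (((Units.mk0 _ h0 * Units.mk0 _ h1)⁻¹ : Fˣ) : F) = g.1 2 2 := by
      rw [Units.val_inv_eq_inv_val, Units.val_mul, Units.val_mk0, Units.val_mk0]
      exact inv_eq_of_mul_eq_one_right hd
    ext i j
    fin_cases i <;> fin_cases j
    · rfl
    · rfl
    · rfl
    · exact h10.symm
    · rfl
    · rfl
    · exact h20.symm
    · exact h21.symm
    · exact h22

theorem pel_bij : Function.Bijective (fun p : GL (Fin 2) F × F × F => (⟨pel p, pel_mem p⟩ : PP F)) := by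
  constructor
  · intro p q h
    have h1 : (pel p).1 = (pel q).1 := congrArg Subtype.val (congrArg Subtype.val h)
    have h01 : p.2.1 = q.2.1 := congrFun (congrFun h1 0) 1
    have h02 : p.2.2 = q.2.2 := congrFun (congrFun h1 0) 2
    have h11 : (p.1 : Matrix (Fin 2) (Fin 2) F) 0 0 = (q.1 : Matrix (Fin 2) (Fin 2) F) 0 0 :=
      congrFun (congrFun h1 1) 1
    have h12 : (p.1 : Matrix (Fin 2) (Fin 2) F) 0 1 = (q.1 : Matrix (Fin 2) (Fin 2) F) 0 1 :=
      congrFun (congrFun h1 1) 2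
    have h21 : (p.1 : Matrix (Fin 2) (Fin 2) F) 1 0 = (q.1 : Matrix (Fin 2) (Fin 2) F) 1 0 :=
      congrFun (congrFun h1 2) 1
    have h22 : (p.1 : Matrix (Fin 2) (Fin 2) F) 1 1 = (q.1 : Matrix (Fin 2) (Fin 2) F) 1 1 :=
      congrFun (congrFun h1 2) 2
    refine Prod.ext (Units.ext ?_) (Prod.ext h01 h02)
    ext i j
    fin_cases i <;> fin_cases j
    · exact h11
    · exact h12
    · exact h21
    · exact h22
  · rintro ⟨g, h10, h20⟩
    have hd : g.1 0 0 * (g.1 1 1 * g.1 2 2 - g.1 1 2 * g.1 2 1) = 1 := by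
      have h := g.2
      rw [Matrix.det_fin_three] at h
      simp only [h10, h20, mul_zero, zero_mul, sub_zero, add_zero] at h
      refine Eq.trans ?_ h
      ring
    have h1 : (g.1 1 1 * g.1 2 2 - g.1 1 2 * g.1 2 1) ≠ 0 := by
      intro h
      rw [h, mul_zero] at hd
      exact zero_ne_one hd
    have hdet : det (!![g.1 1 1, g.1 1 2; g.1 2 1, g.1 2 2] : Matrix (Fin 2) (Fin 2) F) =
        g.1 1 1 * g.1 2 2 - g.1 1 2 * g.1 2 1 := by
      rw [Matrix.det_fin_two]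
      rfl
    refine ⟨(Matrix.GeneralLinearGroup.mkOfDetNeZero !![g.1 1 1, g.1 1 2; g.1 2 1, g.1 2 2] (by rw [hdet]; exact h1),
      g.1 0 1, g.1 0 2), Subtype.ext (Subtype.ext ?_)⟩
    have h00 : (det (!![g.1 1 1, g.1 1 2; g.1 2 1, g.1 2 2] : Matrix (Fin 2) (Fin 2) F))⁻¹ = g.1 0 0 := by
      rw [hdet]
      exact inv_eq_of_mul_eq_one_left hd
    ext i j
    fin_cases i <;> fin_cases j
    · exact h00
    · rfl
    · rfl
    · exact h10.symm
    · rfl
    · rfl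
    · exact h20.symm
    · rfl
    · rfl

theorem lel_bij : Function.Bijective (fun p : GL (Fin 2) F × F × F => (⟨lel p, lel_mem p⟩ : LL F)) := by
  constructor
  · intro p q h
    have h1 : (lel p).1 = (lel q).1 := congrArg Subtype.val (congrArg Subtype.val h)
    have h02 : p.2.1 = q.2.1 := congrFun (congrFun h1 0) 2
    have h12 : p.2.2 = q.2.2 := congrFun (congrFun h1 1) 2
    have h00 : (p.1 : Matrix (Fin 2) (Fin 2) F) 0 0 = (q.1 : Matrix (Fin 2) (Fin 2) F) 0 0 :=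
      congrFun (congrFun h1 0) 0
    have h01 : (p.1 : Matrix (Fin 2) (Fin 2) F) 0 1 = (q.1 : Matrix (Fin 2) (Fin 2) F) 0 1 :=
      congrFun (congrFun h1 0) 1
    have h10 : (p.1 : Matrix (Fin 2) (Fin 2) F) 1 0 = (q.1 : Matrix (Fin 2) (Fin 2) F) 1 0 :=
      congrFun (congrFun h1 1) 0
    have h11 : (p.1 : Matrix (Fin 2) (Fin 2) F) 1 1 = (q.1 : Matrix (Fin 2) (Fin 2) F) 1 1 :=
      congrFun (congrFun h1 1) 1
    refine Prod.ext (Units.ext ?_) (Prod.ext h02 h12)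
    ext i j
    fin_cases i <;> fin_cases j
    · exact h00
    · exact h01
    · exact h10
    · exact h11
  · rintro ⟨g, h20, h21⟩
    have hd : (g.1 0 0 * g.1 1 1 - g.1 0 1 * g.1 1 0) * g.1 2 2 = 1 := by
      have h := g.2
      rw [Matrix.det_fin_three] at h
      simp only [h20, h21, mul_zero, sub_zero, add_zero] at h
      refine Eq.trans ?_ h
      ring
    have h1 : (g.1 0 0 * g.1 1 1 - g.1 0 1 * g.1 1 0) ≠ 0 := by
      intro h
      rw [h, zero_mul] at hd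
      exact zero_ne_one hd
    have hdet : det (!![g.1 0 0, g.1 0 1; g.1 1 0, g.1 1 1] : Matrix (Fin 2) (Fin 2) F) =
        g.1 0 0 * g.1 1 1 - g.1 0 1 * g.1 1 0 := by
      rw [Matrix.det_fin_two]
      rfl
    refine ⟨(Matrix.GeneralLinearGroup.mkOfDetNeZero !![g.1 0 0, g.1 0 1; g.1 1 0, g.1 1 1] (by rw [hdet]; exact h1),
      g.1 0 2, g.1 1 2), Subtype.ext (Subtype.ext ?_)⟩
    have h22 : (det (!![g.1 0 0, g.1 0 1; g.1 1 0, g.1 1 1] : Matrix (Fin 2) (Fin 2) F))⁻¹ = g.1 2 2 := by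
      rw [hdet]
      exact inv_eq_of_mul_eq_one_right hd
    ext i j
    fin_cases i <;> fin_cases j
    · rfl
    · rfl
    · rfl
    · rfl
    · rfl
    · rfl
    · exact h20.symm
    · exact h21.symm
    · exact h22

variable [Fintype F]

theorem card_BB (hF : Fintype.card F = 4) : Nat.card (BB F) = 576 := by
  have hu : Nat.card Fˣ = 3 := by
    rw [Nat.card_units, Nat.card_eq_fintype_card, hF]
  rw [← Nat.card_congr (Equiv.ofBijective _ bel_bij), Nat.card_prod, Nat.card_prod, Nat.card_prod, Nat.card_prod, hu,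
    Nat.card_eq_fintype_card, hF]

theorem card_GL2 (hF : Fintype.card F = 4) : Nat.card (GL (Fin 2) F) = 180 := by
  rw [Matrix.card_GL_field, Fin.prod_univ_two, hF]
  rfl

theorem card_PP (hF : Fintype.card F = 4) : Nat.card (PP F) = 2880 := by
  rw [← Nat.card_congr (Equiv.ofBijective _ pel_bij), Nat.card_prod, Nat.card_prod, card_GL2 hF,
    Nat.card_eq_fintype_card, hF]

theorem card_LL (hF : Fintype.card F = 4) : Nat.card (LL F) = 2880 := by
  rw [← Nat.card_congr (Equiv.ofBijective _ lel_bij), Nat.card_prod, Nat.card_prod, card_GL2 hF,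
    Nat.card_eq_fintype_card, hF]

/-- **the numbers of flags, points and lines** -/
theorem card_cos (hF : Fintype.card F = 4) : Nat.card (G3 F ⧸ BB F) = 105 ∧ Nat.card (G3 F ⧸ PP F) = 21 ∧
    Nat.card (G3 F ⧸ LL F) = 21 := by
  have h := Cfsg.Agent.H118.L34.card_G3 hF
  refine ⟨?_, ?_, ?_⟩
  · have h1 := Subgroup.card_eq_card_quotient_mul_card_subgroup (BB F)
    rw [h, card_BB hF] at h1
    omega
  · have h1 := Subgroup.card_eq_card_quotient_mul_card_subgroup (PP F)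
    rw [h, card_PP hF] at h1
    omega
  · have h1 := Subgroup.card_eq_card_quotient_mul_card_subgroup (LL F)
    rw [h, card_LL hF] at h1
    omega

theorem card_UU (hF : Fintype.card F = 4) : Nat.card (UU F) = 64 := Cfsg.Agent.H118.L34.card_UU hF

end Card

end Cfsg.Agent.H353.L34
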