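import Cfsg.Agent.H353.L34.Cos
import Cfsg.Agent.H219.L34.Orb
import Cfsg.Agent.H745.L34.Cls

/-!
# S5917, Steinberg branch: the orbits of a non-central element of order 3 on flags, points, lines (helper353)
-/

set_option autoImplicit false
set_option linter.unusedSectionVars false

namespace Cfsg.Agent.H353.L34

open Matrix Cfsg.Agent.H691.L34 Cfsg.Agent.H482.LF MulAction

section General

variable {G : Type} [Group G]

/-- fixed cosets by representatives -/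
theorem card_fixed (H : Subgroup G) {ι : Type} (s : ι → G) (y : G) (ha : ∀ i, (s i)⁻¹ * (y * s i) ∈ H)
    (hb : ∀ i j, (s i)⁻¹ * s j ∈ H → i = j) (hc : ∀ g, g⁻¹ * (y * g) ∈ H → ∃ i, (s i)⁻¹ * g ∈ H) :
    Nat.card (fixedBy (G ⧸ H) y) = Nat.card ι := by
  have hfix : ∀ g : G, y • (g : G ⧸ H) = g ↔ g⁻¹ * (y * g) ∈ H := by
    intro g
    have h1 : y • (g : G ⧸ H) = ((y * g : G) : G ⧸ H) := rfl
    rw [h1, eq_comm, QuotientGroup.eq]
  symm
  refine Nat.card_congr (Equiv.ofBijective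
    (fun i => (⟨(s i : G ⧸ H), (hfix _).2 (ha i)⟩ : fixedBy (G ⧸ H) y)) ⟨?_, ?_⟩)
  · intro i j h
    have h1 : ((s i : G) : G ⧸ H) = s j := congrArg Subtype.val h
    exact hb i j (QuotientGroup.eq.1 h1)
  · rintro ⟨x, hx⟩
    induction x using QuotientGroup.induction_on with
    | H g =>
      obtain ⟨i, hi⟩ := hc g ((hfix g).1 hx)
      exact ⟨i, Subtype.ext (QuotientGroup.eq.2 hi)⟩

theorem card_fixed_conj (H : Subgroup G) (g k : G) :
    Nat.card (fixedBy (G ⧸ H) (k * g * k⁻¹)) = Nat.card (fixedBy (G ⧸ H) g) := by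
  symm
  refine Nat.card_congr (Equiv.subtypeEquiv (MulAction.toPerm k) fun x => ?_)
  show g • x = x ↔ (k * g * k⁻¹) • k • x = k • x
  rw [← mul_smul, inv_mul_cancel_right, mul_smul]
  exact (smul_left_cancel_iff k).symm

end General

variable {F : Type} [Field F]

theorem mul_sum' (a b : G3 F) (i j : Fin 3) : (a * b).1 i j = ∑ k, a.1 i k * b.1 k j := by
  show (a.1 * b.1) i j = _
  rw [Matrix.mul_apply]

theorem BB_le_PP : BB F ≤ PP F := fun _ h => ⟨h.1, h.2.1⟩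

theorem BB_le_LL : BB F ≤ LL F := fun _ h => ⟨h.2.1, h.2.2⟩

theorem mem_BB_iff (g : G3 F) : g ∈ BB F ↔ g ∈ PP F ∧ g ∈ LL F :=
  ⟨fun h => ⟨BB_le_PP h, BB_le_LL h⟩, fun h => ⟨h.1.1, h.1.2, h.2.2⟩⟩

/-- the diagonal entries -/
def dd (w : F) : Fin 3 → F := ![1, w, w ^ 2]

theorem dd_inj {w : F} (hw : w ^ 2 + w + 1 = 0) (h2 : (2 : F) = 0) : Function.Injective (dd w) := by
  have h1 : w ≠ 1 := by
    intro h
    rw [h] at hw
    apply one_ne_zero (α := F)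
    linear_combination hw - h2
  have h0 : w ≠ 0 := by
    intro h
    rw [h] at hw
    simp at hw
  have hs : w ^ 2 ≠ 1 := by
    intro h
    rw [h] at hw
    apply h0
    linear_combination hw - h2
  have hs' : w ^ 2 ≠ w := by
    intro h
    apply h1
    have h3 : w * (w - 1) = 0 := by linear_combination h
    exact sub_eq_zero.1 ((mul_eq_zero.1 h3).resolve_left h0)
  intro i j h
  fin_cases i <;> fin_cases j <;> first | rfl | exfalso
  · exact h1 h.symm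
  · exact hs h.symm
  · exact h1 h
  · exact hs' h.symm
  · exact hs h
  · exact hs' h

theorem left_diag {w : F} {y : G3 F} (hy : y.1 = !![1, 0, 0; 0, w, 0; 0, 0, w ^ 2]) (g : G3 F) (i j : Fin 3) :
    (y * g).1 i j = dd w i * g.1 i j := by
  rw [mul3, hy]
  fin_cases i <;> simp [dd]

theorem right_diag {w : F} {y : G3 F} (hy : y.1 = !![1, 0, 0; 0, w, 0; 0, 0, w ^ 2]) (g : G3 F) (i j : Fin 3) :
    (g * y).1 i j = g.1 i j * dd w j := by
  rw [mul3, hy]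
  fin_cases j <;> simp [dd]

/-- the permutation matrices -/
def pm (h2 : (2 : F) = 0) (σ : Equiv.Perm (Fin 3)) : G3 F :=
  ⟨(σ⁻¹).permMatrix F, by
    rw [Matrix.det_permutation]
    rcases Int.units_eq_one_or (Equiv.Perm.sign σ⁻¹) with h | h
    · rw [h]; simp
    · rw [h]
      simp only [Units.val_neg, Units.val_one, Int.cast_neg, Int.cast_one]
      linear_combination -h2⟩

theorem pm_apply (h2 : (2 : F) = 0) (σ : Equiv.Perm (Fin 3)) (i j : Fin 3) :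
    (pm h2 σ).1 i j = if i = σ j then 1 else 0 := by
  show (σ⁻¹).permMatrix F i j = _
  rw [Equiv.Perm.permMatrix, PEquiv.toMatrix_apply]
  congr 1
  simp only [Equiv.toPEquiv_apply, Option.mem_def, Option.some.injEq, eq_iff_iff]
  rw [Equiv.Perm.inv_eq_iff_eq]

theorem pm_inv_mul (h2 : (2 : F) = 0) (σ : Equiv.Perm (Fin 3)) (g : G3 F) (i j : Fin 3) :
    ((pm h2 σ)⁻¹ * g).1 i j = g.1 (σ i) j := by
  have h : pm h2 σ * ((pm h2 σ)⁻¹ * g) = g := mul_inv_cancel_left _ _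
  have h3 : (pm h2 σ * ((pm h2 σ)⁻¹ * g)).1 (σ i) j = ((pm h2 σ)⁻¹ * g).1 i j := by
    rw [mul_sum', Finset.sum_eq_single i]
    · rw [pm_apply, if_pos rfl, one_mul]
    · intro k _ hk
      rw [pm_apply, if_neg (fun e => hk (σ.injective e).symm), zero_mul]
    · intro h
      exact absurd (Finset.mem_univ _) h
  rw [← h3, h]

theorem pm_diag (h2 : (2 : F) = 0) {w : F} {y : G3 F} (hy : y.1 = !![1, 0, 0; 0, w, 0; 0, 0, w ^ 2])
    (σ : Equiv.Perm (Fin 3)) : (pm h2 σ)⁻¹ * (y * pm h2 σ) ∈ BB F := by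
  have h : ∀ i j : Fin 3, i ≠ j → ((pm h2 σ)⁻¹ * (y * pm h2 σ)).1 i j = 0 := by
    intro i j hij
    rw [pm_inv_mul, left_diag hy, pm_apply, if_neg (fun e => hij (σ.injective e)), mul_zero]
  exact ⟨h 1 0 (by decide), h 2 0 (by decide), h 2 1 (by decide)⟩

theorem pm_mem_PP (h2 : (2 : F) = 0) (σ : Equiv.Perm (Fin 3)) (g : G3 F) :
    (pm h2 σ)⁻¹ * g ∈ PP F ↔ g.1 (σ 1) 0 = 0 ∧ g.1 (σ 2) 0 = 0 := by
  show _ ∧ _ ↔ _
  rw [pm_inv_mul, pm_inv_mul]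

theorem pm_mem_LL (h2 : (2 : F) = 0) (σ : Equiv.Perm (Fin 3)) (g : G3 F) :
    (pm h2 σ)⁻¹ * g ∈ LL F ↔ g.1 (σ 2) 0 = 0 ∧ g.1 (σ 2) 1 = 0 := by
  show _ ∧ _ ↔ _
  rw [pm_inv_mul, pm_inv_mul]

theorem pm_entry_ne (h2 : (2 : F) = 0) {σ : Equiv.Perm (Fin 3)} {i j : Fin 3} (h : (pm h2 σ).1 i j = 0) : i ≠ σ j := by
  intro e
  rw [pm_apply, if_pos e] at h
  exact one_ne_zero h

/-- a fixed point -/
theorem fixed_PP {w : F} (hw : w ^ 2 + w + 1 = 0) (h2 : (2 : F) = 0) {y : G3 F}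
    (hy : y.1 = !![1, 0, 0; 0, w, 0; 0, 0, w ^ 2]) {g : G3 F} (h : g⁻¹ * (y * g) ∈ PP F) :
    ∃ i, g.1 i 0 ≠ 0 ∧ ∀ j, j ≠ i → g.1 j 0 = 0 := by
  have h1 : ∀ i, dd w i * g.1 i 0 = g.1 i 0 * (g⁻¹ * (y * g)).1 0 0 := by
    intro i
    have e : y * g = g * (g⁻¹ * (y * g)) := (mul_inv_cancel_left _ _).symm
    rw [← left_diag hy]
    conv_lhs => rw [e]
    rw [mul3, h.1, h.2, mul_zero, mul_zero, add_zero, add_zero]
  have hne : ∃ i, g.1 i 0 ≠ 0 := by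
    by_contra hcon
    push Not at hcon
    have h3 : (g⁻¹ * g).1 0 0 = 0 := by
      rw [mul3, hcon 0, hcon 1, hcon 2]
      simp
    rw [inv_mul_cancel] at h3
    exact one_ne_zero (α := F) h3
  obtain ⟨i, hi⟩ := hne
  refine ⟨i, hi, fun j hj => ?_⟩
  by_contra hj0
  apply hj
  apply dd_inj hw h2
  have hi' := h1 i
  have hj' := h1 j
  rw [mul_comm] at hi' hj'
  rw [mul_left_cancel₀ hi hi', mul_left_cancel₀ hj0 hj']

/-- a fixed line -/
theorem fixed_LL {w : F} (hw : w ^ 2 + w + 1 = 0) (h2 : (2 : F) = 0) {y : G3 F}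
    (hy : y.1 = !![1, 0, 0; 0, w, 0; 0, 0, w ^ 2]) {g : G3 F} (h : g⁻¹ * (y * g) ∈ LL F) :
    ∃ k, g.1 k 0 = 0 ∧ g.1 k 1 = 0 := by
  have h1 : ∀ j, (g⁻¹).1 2 j * dd w j = (g⁻¹ * (y * g)).1 2 2 * (g⁻¹).1 2 j := by
    intro j
    have e : g⁻¹ * y = (g⁻¹ * (y * g)) * g⁻¹ := by rw [← mul_assoc, mul_inv_cancel_right]
    rw [← right_diag hy]
    conv_lhs => rw [e]
    rw [mul3, h.1, h.2, zero_mul, zero_mul, zero_add, zero_add]
  have hne : ∃ k, (g⁻¹).1 2 k ≠ 0 := by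
    by_contra hcon
    push Not at hcon
    have h3 : (g⁻¹ * g).1 2 2 = 0 := by
      rw [mul3, hcon 0, hcon 1, hcon 2]
      simp
    rw [inv_mul_cancel] at h3
    exact one_ne_zero (α := F) h3
  obtain ⟨k, hk⟩ := hne
  have h0 : ∀ j, j ≠ k → (g⁻¹).1 2 j = 0 := by
    intro j hj
    by_contra hj0
    apply hj
    apply dd_inj hw h2
    have hk' := h1 k
    have hj' := h1 j
    rw [mul_comm _ (g⁻¹.1 2 k)] at hk'
    rw [mul_comm _ (g⁻¹.1 2 j)] at hj'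
    rw [mul_left_cancel₀ hk hk', mul_left_cancel₀ hj0 hj']
  have h4 : ∀ c : Fin 3, c ≠ 2 → g.1 k c = 0 := by
    intro c hc
    have h5 : (g⁻¹ * g).1 2 c = (g⁻¹).1 2 k * g.1 k c := by
      rw [mul_sum', Finset.sum_eq_single k]
      · intro j _ hj
        rw [h0 j hj, zero_mul]
      · intro h
        exact absurd (Finset.mem_univ _) h
    rw [inv_mul_cancel] at h5
    have h6 : (1 : G3 F).1 2 c = 0 := by
      show (1 : Matrix (Fin 3) (Fin 3) F) 2 c = 0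
      exact Matrix.one_apply_ne (Ne.symm hc)
    rw [h6] at h5
    exact (mul_eq_zero.1 h5.symm).resolve_left hk
  exact ⟨k, h4 0 (by decide), h4 1 (by decide)⟩

theorem swap0 : ∀ i j : Fin 3, (Equiv.swap 0 i) 1 ≠ (Equiv.swap 0 j) 0 → (Equiv.swap 0 i) 2 ≠ (Equiv.swap 0 j) 0 →
    i = j := by decide

theorem swap0' : ∀ i : Fin 3, (Equiv.swap 0 i) 1 ≠ i ∧ (Equiv.swap 0 i) 2 ≠ i := by decide

theorem swap2 : ∀ i j : Fin 3, (Equiv.swap 2 i) 2 ≠ (Equiv.swap 2 j) 0 → (Equiv.swap 2 i) 2 ≠ (Equiv.swap 2 j) 1 →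
    i = j := by decide

theorem card_fixed_PP {w : F} (hw : w ^ 2 + w + 1 = 0) (h2 : (2 : F) = 0) {y : G3 F}
    (hy : y.1 = !![1, 0, 0; 0, w, 0; 0, 0, w ^ 2]) : Nat.card (fixedBy (G3 F ⧸ PP F) y) = 3 := by
  rw [card_fixed (PP F) (fun i : Fin 3 => pm h2 (Equiv.swap 0 i)) y (fun i => BB_le_PP (pm_diag h2 hy _)) ?_ ?_,
    Nat.card_eq_fintype_card, Fintype.card_fin]
  · intro i j h
    rw [pm_mem_PP] at h
    exact swap0 i j (pm_entry_ne h2 h.1) (pm_entry_ne h2 h.2)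
  · intro g hg
    obtain ⟨i, _, hi⟩ := fixed_PP hw h2 hy hg
    exact ⟨i, (pm_mem_PP h2 _ g).2 ⟨hi _ (swap0' i).1, hi _ (swap0' i).2⟩⟩

theorem card_fixed_LL {w : F} (hw : w ^ 2 + w + 1 = 0) (h2 : (2 : F) = 0) {y : G3 F}
    (hy : y.1 = !![1, 0, 0; 0, w, 0; 0, 0, w ^ 2]) : Nat.card (fixedBy (G3 F ⧸ LL F) y) = 3 := by
  rw [card_fixed (LL F) (fun i : Fin 3 => pm h2 (Equiv.swap 2 i)) y (fun i => BB_le_LL (pm_diag h2 hy _)) ?_ ?_,
    Nat.card_eq_fintype_card, Fintype.card_fin]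
  · intro i j h
    rw [pm_mem_LL] at h
    exact swap2 i j (pm_entry_ne h2 h.1) (pm_entry_ne h2 h.2)
  · intro g hg
    obtain ⟨k, hk⟩ := fixed_LL hw h2 hy hg
    refine ⟨k, (pm_mem_LL h2 _ g).2 ?_⟩
    show g.1 ((Equiv.swap 2 k) 2) 0 = 0 ∧ g.1 ((Equiv.swap 2 k) 2) 1 = 0
    rw [Equiv.swap_apply_left]
    exact hk

theorem exists_perm : ∀ i k : Fin 3, i ≠ k → ∃ σ : Equiv.Perm (Fin 3), σ 1 ≠ i ∧ σ 2 = k := by decide

theorem perm_eq : ∀ σ τ : Equiv.Perm (Fin 3), σ 1 ≠ τ 0 → σ 2 ≠ τ 0 → σ 2 ≠ τ 1 → σ = τ := by decide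

theorem card_fixed_BB {w : F} (hw : w ^ 2 + w + 1 = 0) (h2 : (2 : F) = 0) {y : G3 F}
    (hy : y.1 = !![1, 0, 0; 0, w, 0; 0, 0, w ^ 2]) : Nat.card (fixedBy (G3 F ⧸ BB F) y) = 6 := by
  rw [card_fixed (BB F) (fun σ : Equiv.Perm (Fin 3) => pm h2 σ) y (fun σ => pm_diag h2 hy σ) ?_ ?_,
    Nat.card_eq_fintype_card]
  · rfl
  · intro σ τ h
    rw [mem_BB_iff, pm_mem_PP, pm_mem_LL] at h
    exact perm_eq σ τ (pm_entry_ne h2 h.1.1) (pm_entry_ne h2 h.1.2) (pm_entry_ne h2 h.2.2)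
  · intro g hg
    obtain ⟨i, hi0, hi⟩ := fixed_PP hw h2 hy (BB_le_PP hg)
    obtain ⟨k, hk⟩ := fixed_LL hw h2 hy (BB_le_LL hg)
    have hik : i ≠ k := by
      rintro rfl
      exact hi0 hk.1
    obtain ⟨σ, h1, h3⟩ := exists_perm i k hik
    refine ⟨σ, (mem_BB_iff _).2 ⟨(pm_mem_PP h2 _ g).2 ⟨hi _ h1, ?_⟩, (pm_mem_LL h2 _ g).2 ?_⟩⟩
    · rw [h3]
      exact hk.1
    · rw [h3]
      exact hk

/-- **the orbits of a non-central element of order 3 on flags, points and lines** -/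
theorem orb3 [Fintype F] (hF : Fintype.card F = 4) (g : G3 F) (h : orderOf g = 3)
    (hc : g ∉ Subgroup.center (G3 F)) : Module.finrank (ZMod 2) (fixF (BB F) g) = 39 ∧
    Module.finrank (ZMod 2) (fixF (PP F) g) = 9 ∧ Module.finrank (ZMod 2) (fixF (LL F) g) = 9 := by
  obtain ⟨w, hw⟩ := Cfsg.Agent.H745.L34.exists_w hF
  have h2 : (2 : F) = 0 := Cfsg.Agent.H745.L34.two0 hF
  obtain ⟨k, hk⟩ := Cfsg.Agent.H745.L34.cls3 hF hw g h hc
  obtain ⟨c1, c2, c3⟩ := card_cos hF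
  refine ⟨?_, ?_, ?_⟩
  · have e := Cfsg.Agent.H219.L34.orb (BB F) g Nat.prime_three h
    rw [← card_fixed_conj (BB F) g k, card_fixed_BB hw h2 hk, c1] at e
    omega
  · have e := Cfsg.Agent.H219.L34.orb (PP F) g Nat.prime_three h
    rw [← card_fixed_conj (PP F) g k, card_fixed_PP hw h2 hk, c2] at e
    omega
  · have e := Cfsg.Agent.H219.L34.orb (LL F) g Nat.prime_three h
    rw [← card_fixed_conj (LL F) g k, card_fixed_LL hw h2 hk, c3] at e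
    omega

end Cfsg.Agent.H353.L34
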